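import Cfsg.Agent.H294.DM.Tool
import Cfsg.Agent.H124.DM.Uniq
import Cfsg.Agent.OrdDiv.Table
import Cfsg.Agent.H168.Rad
import Cfsg.Agent.S2116
import Cfsg.Agent.S0497

/-!
# The covers `3.A6` and `6.A6` are determined by their degrees (helper294, S4907, DM20)
-/

set_option autoImplicit false

namespace Cfsg.Agent.H294.DM

open Cfsg Subgroup Cfsg.Agent.H700.DM Cfsg.Agent.H487

universe u v w u₁

/-- the order of the centre of a quasisimple group divides the order of the multiplier -/
theorem card_center_dvd {Q : Type u} [Group Q] [Finite Q] {A : Type w} [CommGroup A] [Finite A]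
    (hA : HasSchurMultiplier Q A) {G : Type u₁} [Group G] [Finite G] (hG : commutator G = ⊤)
    (eG : G ⧸ Subgroup.center G ≃* Q) : Nat.card (Subgroup.center G) ∣ Nat.card A := by
  obtain ⟨β, hβs, hβ⟩ := H124.DM.exists_cov hG eG
  obtain ⟨e1⟩ := nonempty_mulEquiv_MM hA
  obtain ⟨e2⟩ := nonempty_prU_ker Q
  rw [← H124.DM.relIndex_ker hβs hβ, Nat.card_congr (e1.trans e2.symm).toEquiv]
  exact Subgroup.relIndex_dvd_card _ _

/-- the order of a simple group of order dividing 2160 -/
theorem card_of_dvd_2160 {K : Type u} [Group K] [Finite K] (hK : IsKnownSimple' K)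
    (hna : ¬ ∀ a b : K, a * b = b * a) (hd : Nat.card K ∣ 2160) : Nat.card K = 60 ∨ Nat.card K = 360 := by
  obtain ⟨g, h1, h2, h3⟩ := OrdDiv.exists_good OrdDiv.table hK hna (l := [(2, 4), (3, 3), (5, 1)]) (N := 2160)
    (by decide +kernel) hd
  have h4 : ∀ g ∈ OrdDiv.cands [(2, 4), (3, 3), (5, 1)] 2160, OrdDiv.ordN g = 60 ∨ OrdDiv.ordN g = 360 := by
    decide +kernel
  rw [h3]
  exact h4 g h1

/-- a central normal subgroup with simple quotient is the centre -/
theorem center_eq {G : Type u} [Group G] [Finite G] (M : Subgroup G) [M.Normal] [IsSimpleGroup (G ⧸ M)]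
    (hna : ¬ ∀ a b : G ⧸ M, a * b = b * a) (hM : M ≤ Subgroup.center G) : M = Subgroup.center G := by
  refine le_antisymm hM ?_
  have h1 : ((Subgroup.center G).map (QuotientGroup.mk' M)).Normal :=
    Subgroup.Normal.map inferInstance _ (QuotientGroup.mk'_surjective M)
  rcases h1.eq_bot_or_eq_top with h2 | h2
  · intro x hx
    have h3 : QuotientGroup.mk' M x ∈ (Subgroup.center G).map (QuotientGroup.mk' M) := ⟨x, hx, rfl⟩
    rw [h2, Subgroup.mem_bot] at h3
    exact (QuotientGroup.eq_one_iff x).1 h3
  · exfalso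
    apply hna
    intro a b
    have h3 : a ∈ (Subgroup.center G).map (QuotientGroup.mk' M) := by rw [h2]; trivial
    obtain ⟨x, hx, rfl⟩ := h3
    obtain ⟨y, rfl⟩ := QuotientGroup.mk'_surjective M b
    rw [← map_mul, ← map_mul, (Subgroup.mem_center_iff.1 hx y)]

/-- **Row `3.A6`, `6.A6`.** -/
theorem row_a6 (hS : ∀ (K : Type u) [Group K] [Finite K] [IsSimpleGroup K], IsKnownSimple' K)
    {G : Type u} {H : Type v} [Group G] [Finite G] [Group H] [Finite H] (hH : Cfsg.IsQuasisimple H)
    (e : H ⧸ Subgroup.center H ≃* ↥(alternatingGroup (Fin 6))) (h3 : 3 ∣ Nat.card (Subgroup.center H))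
    (hd : SameDeg G H) : Nonempty (G ≃* H) := by
  have hmult := S2116.result 6 (Or.inl rfl)
  -- the centre of `H`
  have hcard6 : Nat.card ↥(alternatingGroup (Fin 6)) = 360 := by
    rw [nat_card_alternatingGroup, Nat.card_fin]
    decide
  have hz6 : Nat.card (Subgroup.center H) ∣ 6 := by
    have h := card_center_dvd hmult hH.1.commutator_eq_top e
    rwa [Nat.card_congr Multiplicative.toAdd, Nat.card_zmod] at h
  have hz : Nat.card (Subgroup.center H) = 3 ∨ Nat.card (Subgroup.center H) = 6 := by
    have h1 := Nat.le_of_dvd (by norm_num) hz6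
    have h2 : Nat.card (Subgroup.center H) ≠ 0 := Nat.card_pos.ne'
    interval_cases Nat.card (Subgroup.center H) <;> revert h3 hz6 h2 <;> decide
  have hHc : Nat.card H = 360 * Nat.card (Subgroup.center H) := by
    rw [Subgroup.card_eq_card_quotient_mul_card_subgroup (Subgroup.center H), Nat.card_congr e.toEquiv, hcard6]
  have hGc : Nat.card G = 360 * Nat.card (Subgroup.center H) := by rw [hd.card_eq, hHc]
  have hG : commutator G = ⊤ := (hd.perfect hH.1).commutator_eq_top
  have hnt : Nontrivial G := by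
    rw [← Finite.one_lt_card_iff_nontrivial, hGc]
    rcases hz with h | h <;> rw [h] <;> norm_num
  obtain ⟨M, hMn, hsim, hna⟩ := exists_simple hG
  have hGM : Nat.card G = Nat.card (G ⧸ M) * Nat.card M := Subgroup.card_eq_card_quotient_mul_card_subgroup M
  have hKd : Nat.card (G ⧸ M) ∣ 2160 := by
    have h1 : Nat.card (G ⧸ M) ∣ Nat.card G := ⟨_, hGM⟩
    refine h1.trans ?_
    rw [hGc]
    rcases hz with h | h <;> rw [h] <;> norm_num
  have hMpos : 0 < Nat.card M := Nat.card_pos
  rcases card_of_dvd_2160 (hS _) hna hKd with hK | hK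
  · -- `A5`
    exfalso
    have hM : Nat.card M = 18 ∨ Nat.card M = 36 := by
      rw [hGc, hK] at hGM
      rcases hz with h | h <;> rw [h] at hGM <;> omega
    have hsol : Group.IsSolvable M := by
      by_contra hc
      have := H168.NoSolv.sixty_le hc
      omega
    refine kill_prime hG M hna hsol Nat.prime_three ?_ ?_ (k := 2) ?_ ?_
    · rcases hM with h | h <;> rw [h] <;> norm_num
    · rw [hK]; norm_num
    · rcases hM with h | h <;> rw [h] <;> norm_num
    · rw [hK]; decide +kernel
  · -- `A6`
    have hM : Nat.card M = Nat.card (Subgroup.center H) := by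
      rw [hGc, hK] at hGM
      omega
    have hM6 : Nat.card M ∣ 6 := hM ▸ hz6
    have hsol : Group.IsSolvable M := by
      by_contra hc
      have h1 := H168.NoSolv.sixty_le hc
      have h2 := Nat.le_of_dvd (by norm_num) hM6
      omega
    have hcen : M ≤ Subgroup.center G := by
      refine H456.DM.Cover.le_center_of ⟨hG⟩ M hsim hsol fun l hl j hj1 hj => ?_
      have h6 : l ^ j ∣ 6 := hj.trans hM6
      have hl2 := hl.two_le
      have hj2 : j < 2 := by
        by_contra hj2
        have h7 : l ^ 2 ∣ 6 := (pow_dvd_pow l (by omega)).trans h6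
        have h8 : l ^ 2 ≤ 6 := Nat.le_of_dvd (by norm_num) h7
        have h9 : l < 3 := by nlinarith
        interval_cases l
        revert h7; decide
      rw [card_gl hl, hK]
      have hj3 : j = 1 := by omega
      subst hj3
      have h8 : l ≤ 6 := by
        rw [pow_one] at h6
        exact Nat.le_of_dvd (by norm_num) h6
      interval_cases l <;> decide
    have hMc := center_eq M hna hcen
    obtain ⟨e1⟩ := S0497.result hK
    have hsimple : IsSimpleGroup (G ⧸ Subgroup.center G) :=
      (MulEquiv.isSimpleGroup_congr (QuotientGroup.quotientMulEquivOfEq hMc)).1 hsim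
    have hGq : Cfsg.IsQuasisimple G := ⟨⟨hG⟩, hsimple⟩
    have e2 : G ⧸ Subgroup.center G ≃* ↥(alternatingGroup (Fin 6)) :=
      (QuotientGroup.quotientMulEquivOfEq hMc.symm).trans e1
    have : NeZero 6 := ⟨by norm_num⟩
    exact H124.DM.iso_of_cyc hmult hGq hH e2 (e2.trans e.symm) (by rw [← hMc]; exact hM)

end Cfsg.Agent.H294.DM
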