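import Cfsg.Agent.H456.DM.Cover
import Cfsg.Agent.H700.DM.Basic
import Cfsg.Agent.H906.ZLemma

/-!
# Tools for the exceptional covers (S4907)
-/

set_option autoImplicit false

namespace Cfsg.Agent.H294.DM

open Cfsg Subgroup Cfsg.Agent.H700.DM
open scoped commutatorElement

universe u v

/-- a perfect nontrivial finite group has a nonabelian simple quotient -/
theorem exists_simple {G : Type u} [Group G] [Finite G] [Nontrivial G] (hG : commutator G = ⊤) :
    ∃ (M : Subgroup G) (_ : M.Normal), IsSimpleGroup (G ⧸ M) ∧ ¬ ∀ a b : G ⧸ M, a * b = b * a := by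
  classical
  have hfin : Finite (Subgroup G) := inferInstance
  obtain ⟨M, hM⟩ := (Set.toFinite {N : Subgroup G | N.Normal ∧ N ≠ ⊤}).exists_maximal
    ⟨⊥, inferInstance, bot_ne_top⟩
  obtain ⟨⟨hMn, hMt⟩, hmax⟩ := hM
  refine ⟨M, hMn, ?_, ?_⟩
  · have hnt : Nontrivial (G ⧸ M) := by
      rw [QuotientGroup.nontrivial_iff]
      exact hMt
    refine ⟨fun N hN => ?_⟩
    have h1 : M ≤ N.comap (QuotientGroup.mk' M) := by
      intro x hx
      rw [Subgroup.mem_comap, (QuotientGroup.eq_one_iff x).2 hx |> fun h => (show QuotientGroup.mk' M x = 1 from h)]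
      exact one_mem N
    by_cases h2 : N.comap (QuotientGroup.mk' M) = ⊤
    · right
      rw [eq_top_iff]
      intro y _
      obtain ⟨x, rfl⟩ := QuotientGroup.mk'_surjective M y
      have : x ∈ N.comap (QuotientGroup.mk' M) := by rw [h2]; trivial
      exact this
    · left
      have h3 := hmax ⟨hN.comap _, h2⟩ h1
      rw [eq_bot_iff]
      intro y hy
      obtain ⟨x, rfl⟩ := QuotientGroup.mk'_surjective M y
      have : x ∈ M := h3 hy
      rw [Subgroup.mem_bot]
      exact (QuotientGroup.eq_one_iff x).2 this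
  · intro hab
    apply hMt
    rw [eq_top_iff, ← hG]
    rw [commutator_eq_closure, Subgroup.closure_le]
    rintro _ ⟨a, b, rfl⟩
    change ⁅a, b⁆ ∈ M
    rw [← QuotientGroup.eq_one_iff, ← QuotientGroup.mk'_apply, map_commutatorElement, commutatorElement_eq_one_iff_mul_comm]
    exact hab _ _

/-- the order of `GL_j(l)` -/
def glc (l j : ℕ) : ℕ := ((List.range j).map fun i => l ^ j - l ^ i).prod

theorem card_gl {l : ℕ} (hl : l.Prime) (j : ℕ) : Nat.card (GL (Fin j) (ZMod l)) = glc l j := by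
  have : Fact l.Prime := ⟨hl⟩
  rw [Matrix.card_GL_field, ZMod.card, glc, Fin.prod_univ_eq_prod_range (fun i => l ^ j - l ^ i) j]
  exact Finset.prod_eq_multiset_prod _ _

/-- the central prime powers are bounded by the order of the quotient -/
theorem not_dvd_center {E : Type u} [Group E] [Finite E] (hE : commutator E = ⊤) {l : ℕ} (hl : l.Prime)
    (h2 : ¬ l ^ 2 ∣ Nat.card (E ⧸ Subgroup.center E)) : ¬ l ∣ Nat.card (Subgroup.center E) := by
  intro hd
  have : Fact l.Prime := ⟨hl⟩
  obtain ⟨z, hz⟩ := exists_prime_orderOf_dvd_card' (G := Subgroup.center E) l hd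
  let P : Sylow l (E ⧸ Subgroup.center E) := default
  have hPc : Nat.card P ∣ l := by
    have h1 := P.card_eq_multiplicity
    have h3 : (Nat.card (E ⧸ Subgroup.center E)).factorization l ≤ 1 := by
      by_contra h4
      push Not at h4
      exact h2 ((pow_dvd_pow l h4).trans (Nat.ordProj_dvd _ _))
    rw [h1]
    interval_cases (Nat.card (E ⧸ Subgroup.center E)).factorization l
    · simp
    · simp
  have hcyc : IsCyclic (P : Subgroup (E ⧸ Subgroup.center E)) := by
    rcases (Nat.dvd_prime hl).1 hPc with h | h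
    · have : Subsingleton (P : Subgroup (E ⧸ Subgroup.center E)) := (Nat.card_eq_one_iff_unique.1 h).1
      exact isCyclic_of_subsingleton
    · exact isCyclic_of_prime_card (p := l) h
  have h3 := H906.central_eq_one hE (Subgroup.center E) le_rfl (P : Subgroup (E ⧸ Subgroup.center E)) hcyc l hl
    P.not_dvd_index (z : E) z.2 (by
      have h4 := pow_orderOf_eq_one z
      rw [hz] at h4
      exact congrArg Subtype.val h4)
  have h5 : z = 1 := Subtype.ext h3
  rw [h5, orderOf_one] at hz
  exact hl.one_lt.ne hz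

theorem gl_all {l : ℕ} (hl : l.Prime) {m k n : ℕ} (hk : ¬ l ^ (k + 1) ∣ m)
    (h : ∀ j ∈ List.range (k + 1), ¬ n ∣ glc l j) (j : ℕ) (hj : l ^ j ∣ m) :
    ¬ n ∣ Nat.card (GL (Fin j) (ZMod l)) := by
  rw [card_gl hl]
  apply h
  rw [List.mem_range]
  by_contra hlt
  exact hk ((pow_dvd_pow l (by omega)).trans hj)

/-- **Kill by a prime with small Sylow subgroup in the quotient** -/
theorem kill_prime {G : Type u} [Group G] [Finite G] (hG : commutator G = ⊤) (M : Subgroup G) [M.Normal]
    [IsSimpleGroup (G ⧸ M)] (hna : ¬ ∀ a b : G ⧸ M, a * b = b * a) (hs : Group.IsSolvable M) {l : ℕ} (hl : l.Prime) (h1 : l ∣ Nat.card M)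
    (h2 : ¬ l ^ 2 ∣ Nat.card (G ⧸ M)) {k : ℕ} (hk : ¬ l ^ (k + 1) ∣ Nat.card M)
    (h : ∀ j ∈ List.range (k + 1), ¬ Nat.card (G ⧸ M) ∣ glc l j) : False := by
  obtain ⟨E, _, _, hE, ⟨e⟩, hc⟩ := H456.DM.Cover.cover_of ⟨hG⟩ M inferInstance hna hs hl (gl_all hl hk h)
  refine not_dvd_center (E := E) ((Group.isPerfect_def (G := E)).1 hE.1) hl ?_ ?_
  · rw [Nat.card_congr e.toEquiv]
    exact h2
  · rw [hc]
    refine dvd_pow_self l ?_
    have h3 : Nat.card M ≠ 0 := Nat.card_pos.ne'
    exact (hl.factorization_pos_of_dvd h3 h1).ne'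

end Cfsg.Agent.H294.DM
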